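import Groth.Agent.H15Site.HigherDirect
import Mathlib.Algebra.Homology.DerivedCategory.Ext.EnoughInjectives
import Mathlib.Algebra.Homology.DerivedCategory.Ext.ExactSequences
import Mathlib.CategoryTheory.Abelian.RightDerived

/-!
# The universal Ext class for the first non-zero right derived functor of a right adjoint
-/

set_option autoImplicit false
set_option linter.style.haveILetI false
set_option linter.unusedSectionVars false
set_option synthInstance.maxHeartbeats 400000
set_option maxHeartbeats 1000000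
set_option backward.isDefEq.respectTransparency false

universe v v' u u'

open CategoryTheory CategoryTheory.Limits CategoryTheory.Abelian

namespace Groth.Agent.H17.DualSh

variable {A : Type u} [Category.{v} A] [Abelian A] [EnoughInjectives A] [HasExt.{v} A]
  {B : Type u'} [Category.{v} B] [Abelian B] {L : B ⥤ A} {R : A ⥤ B}

/-- `ξ` is universal for `F ↦ Ext^c(L F, Z)`. -/
def IsUniv (L : B ⥤ A) {W : B} {Z : A} {c : ℕ} (ξ : Ext.{v} (L.obj W) Z c) : Prop :=
  ∀ F : B, Function.Bijective fun φ : F ⟶ W => (Ext.mk₀ (L.map φ)).comp ξ (zero_add c)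

theorem mk₀_sub' {a b : A} (f g : a ⟶ b) : Ext.mk₀ (f - g) = Ext.mk₀ f - Ext.mk₀ g :=
  map_sub (Ext.addEquiv₀ (X := a) (Y := b)).symm f g

theorem sub_comp' {a b c : A} {i j l : ℕ} (x y : Ext.{v} a b i) (z : Ext.{v} b c j) (h : i + j = l) :
    (x - y).comp z h = x.comp z h - y.comp z h :=
  map_sub (z.postcomp a h) x y

theorem exists_univ_zero (adj : L ⊣ R) {Z : A} {W : B} (e : W ≅ R.obj Z) :
    ∃ ξ : Ext.{v} (L.obj W) Z 0, IsUniv L ξ := by
  refine ⟨Ext.mk₀ ((adj.homEquiv W Z).symm e.hom), fun F => ?_⟩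
  have h : (fun φ : F ⟶ W => (Ext.mk₀ (L.map φ)).comp (Ext.mk₀ ((adj.homEquiv W Z).symm e.hom)) (zero_add 0)) =
      fun φ => Ext.mk₀ ((adj.homEquiv F Z).symm (φ ≫ e.hom)) := by
    funext φ
    rw [Ext.mk₀_comp_mk₀, adj.homEquiv_naturality_left_symm]
  rw [h]
  exact (Ext.mk₀_bijective _ _).comp ((adj.homEquiv F Z).symm.bijective.comp
    ⟨fun a b hab => by simpa using hab, fun g => ⟨g ≫ e.inv, by simp⟩⟩)

/-- The image of `R I → R Z'` is injective and the map has a splitting of its cokernel. -/
theorem exists_section_cokernel {a b c : B} (f : a ⟶ b) (g : b ⟶ c) (w : f ≫ g = 0) (hex : (ShortComplex.mk f g w).Exact)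
    [Mono f] [Injective a] [Injective b] :
    ∃ s : cokernel g ⟶ c, s ≫ cokernel.π g = 𝟙 _ := by
  have hk : (ShortComplex.mk f (Abelian.factorThruImage g) (by
      rw [← cancel_mono (Abelian.image.ι g), Category.assoc, Abelian.image.fac, zero_comp, w])).ShortExact :=
    { exact := by
        refine (ShortComplex.exact_iff_of_epi_of_isIso_of_mono
          ({ τ₁ := 𝟙 a, τ₂ := 𝟙 b, τ₃ := Abelian.image.ι g,
             comm₁₂ := by simp, comm₂₃ := by simp } :
            ShortComplex.mk f (Abelian.factorThruImage g) _ ⟶ ShortComplex.mk f g w)).2 hex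
      mono_f := inferInstanceAs (Mono f)
      epi_g := inferInstanceAs (Epi (Abelian.factorThruImage g)) }
  let sp := hk.splittingOfInjective
  haveI : Injective (Abelian.image g) :=
    ⟨fun {X Y} u i _ => ⟨Injective.factorThru (u ≫ sp.s) i ≫ Abelian.factorThruImage g, by
      rw [Injective.comp_factorThru_assoc, Category.assoc, show sp.s ≫ Abelian.factorThruImage g = 𝟙 _ from sp.s_g,
        Category.comp_id]⟩⟩
  let ρ : c ⟶ Abelian.image g := Injective.factorThru (𝟙 _) (Abelian.image.ι g)
  have hρ : Abelian.image.ι g ≫ ρ = 𝟙 _ := Injective.comp_factorThru _ _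
  refine ⟨cokernel.desc g (𝟙 c - ρ ≫ Abelian.image.ι g) ?_, ?_⟩
  · rw [Preadditive.comp_sub, Category.comp_id]
    nth_rw 2 [← Abelian.image.fac g]
    rw [Category.assoc, ← Category.assoc (Abelian.image.ι g), hρ, Category.id_comp, Abelian.image.fac, sub_self]
  · refine coequalizer.hom_ext ?_
    rw [cokernel.π_desc_assoc, Category.comp_id, Preadditive.sub_comp, Category.id_comp, Category.assoc,
      kernel.condition, comp_zero, sub_zero]

/-- Lifts to `b` of maps to the image, when the sequence splits. -/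
theorem exists_lift_image (F : B) {a b c : B} (f : a ⟶ b) (g : b ⟶ c) (w : f ≫ g = 0)
    (hex : (ShortComplex.mk f g w).Exact) [Mono f] [Injective a] (v : F ⟶ Abelian.image g) :
    ∃ u : F ⟶ b, u ≫ Abelian.factorThruImage g = v := by
  have hk : (ShortComplex.mk f (Abelian.factorThruImage g) (by
      rw [← cancel_mono (Abelian.image.ι g), Category.assoc, Abelian.image.fac, zero_comp, w])).ShortExact :=
    { exact := by
        refine (ShortComplex.exact_iff_of_epi_of_isIso_of_mono
          ({ τ₁ := 𝟙 a, τ₂ := 𝟙 b, τ₃ := Abelian.image.ι g,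
             comm₁₂ := by simp, comm₂₃ := by simp } :
            ShortComplex.mk f (Abelian.factorThruImage g) _ ⟶ ShortComplex.mk f g w)).2 hex
      mono_f := inferInstanceAs (Mono f)
      epi_g := inferInstanceAs (Epi (Abelian.factorThruImage g)) }
  exact ⟨v ≫ hk.splittingOfInjective.s, by
    rw [Category.assoc, show hk.splittingOfInjective.s ≫ Abelian.factorThruImage g = 𝟙 _ from
      hk.splittingOfInjective.s_g, Category.comp_id]⟩

variable [R.Additive] [PreservesFiniteLimits R] [L.PreservesMonomorphisms]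

theorem exists_univ_one (adj : L ⊣ R) {Z : A} {W : B} [Injective (R.obj Z)] (e : W ≅ (R.rightDerived 1).obj Z) :
    ∃ ξ : Ext.{v} (L.obj W) Z 1, IsUniv L ξ := by
  let S := ShortComplex.mk (Injective.ι Z) (cokernel.π (Injective.ι Z)) (cokernel.condition _)
  have hS : S.ShortExact :=
    { exact := ShortComplex.exact_of_g_is_cokernel _ (cokernelIsCokernel _)
      mono_f := inferInstanceAs (Mono (Injective.ι Z)) }
  haveI : Injective S.X₂ := inferInstanceAs (Injective (Injective.under Z))
  haveI := hS.mono_f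
  obtain ⟨e'⟩ := H15Site.HigherDirect.nonempty_rightDerived_one_iso R hS (R.isZero_rightDerived_obj_injective_succ 0 _)
  haveI : Injective (R.obj S.X₂) := Injective.injective_of_adjoint adj S.X₂
  haveI : Injective (S.map R).X₁ := inferInstanceAs (Injective (R.obj Z))
  have hex : (ShortComplex.mk (R.map S.f) (R.map S.g) (by rw [← R.map_comp, S.zero, R.map_zero])).Exact :=
    hS.exact.map_of_mono_of_preservesKernel R inferInstance inferInstance
  haveI : Mono (R.map S.f) := inferInstance
  haveI : Injective (R.obj S.X₁) := inferInstanceAs (Injective (R.obj Z))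
  obtain ⟨s, hs⟩ := exists_section_cokernel _ _ _ hex
  let i : W ≅ cokernel (R.map S.g) := e ≪≫ e'
  let σ : W ⟶ R.obj S.X₃ := i.hom ≫ s
  let π : R.obj S.X₃ ⟶ W := cokernel.π (R.map S.g) ≫ i.inv
  have hσ : σ ≫ π = 𝟙 W := by
    simp only [σ, π, Category.assoc, reassoc_of% hs, Iso.hom_inv_id]
  let ε : L.obj W ⟶ S.X₃ := (adj.homEquiv W S.X₃).symm σ
  refine ⟨(Ext.mk₀ ε).comp hS.extClass (zero_add 1), fun F => ?_⟩
  have key : ∀ φ : F ⟶ W, (Ext.mk₀ (L.map φ)).comp ((Ext.mk₀ ε).comp hS.extClass (zero_add 1)) (zero_add 1) =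
      (Ext.mk₀ ((adj.homEquiv F S.X₃).symm (φ ≫ σ))).comp hS.extClass (zero_add 1) := fun φ => by
    rw [← Ext.comp_assoc_of_second_deg_zero, Ext.mk₀_comp_mk₀, adj.homEquiv_naturality_left_symm]
  have hker : ∀ g : F ⟶ R.obj S.X₃, (Ext.mk₀ ((adj.homEquiv F S.X₃).symm g)).comp hS.extClass (zero_add 1) = 0 ↔
      g ≫ π = 0 := by
    intro g
    constructor
    · intro h
      obtain ⟨x, hx⟩ := Ext.covariant_sequence_exact₃ _ hS _ (zero_add 1) h
      obtain ⟨u, rfl⟩ := (Ext.mk₀_bijective _ _).2 x
      rw [Ext.mk₀_comp_mk₀] at hx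
      have hg : g = adj.homEquiv F S.X₂ u ≫ R.map S.g := by
        apply (adj.homEquiv F S.X₃).symm.injective
        rw [adj.homEquiv_naturality_right_symm, Equiv.symm_apply_apply, (Ext.mk₀_bijective _ _).1 hx]
      rw [hg]
      simp only [π, Category.assoc, cokernel.condition_assoc, zero_comp, comp_zero]
    · intro h
      have h' : g ≫ cokernel.π (R.map S.g) = 0 := by
        rw [← cancel_mono i.inv, Category.assoc, zero_comp]; exact h
      let v : F ⟶ Abelian.image (R.map S.g) := kernel.lift _ g h'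
      let hk := exists_lift_image F (R.map S.f) (R.map S.g) _ hex v
      obtain ⟨w, hw⟩ := hk
      have hg : g = w ≫ R.map S.g := by
        rw [← Abelian.image.fac (R.map S.g), ← Category.assoc, hw]
        exact (kernel.lift_ι _ _ _).symm
      rw [hg, adj.homEquiv_naturality_right_symm, ← Ext.mk₀_comp_mk₀, Ext.comp_assoc_of_second_deg_zero,
        hS.comp_extClass, Ext.comp_zero]
  refine ⟨fun φ φ' h => ?_, fun x => ?_⟩
  · simp only [key] at h
    have h0 : (Ext.mk₀ ((adj.homEquiv F S.X₃).symm ((φ - φ') ≫ σ))).comp hS.extClass (zero_add 1) = 0 := by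
      haveI : L.Additive := adj.left_adjoint_additive
      rw [Preadditive.sub_comp, show (adj.homEquiv F S.X₃).symm (φ ≫ σ - φ' ≫ σ) =
        (adj.homEquiv F S.X₃).symm (φ ≫ σ) - (adj.homEquiv F S.X₃).symm (φ' ≫ σ) from
        map_sub (adj.homAddEquiv F S.X₃).symm _ _, mk₀_sub', sub_comp', h, sub_self]
    rw [hker, Category.assoc, hσ, Category.comp_id, sub_eq_zero] at h0
    exact h0
  · obtain ⟨y, hy⟩ := Ext.covariant_sequence_exact₁ _ hS x (Ext.eq_zero_of_injective _) (zero_add 1)
    obtain ⟨f, rfl⟩ := (Ext.mk₀_bijective _ _).2 y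
    let g := adj.homEquiv F S.X₃ f
    refine ⟨g ≫ π, ?_⟩
    simp only [key]
    have h0 : (Ext.mk₀ ((adj.homEquiv F S.X₃).symm (g - (g ≫ π) ≫ σ))).comp hS.extClass (zero_add 1) = 0 := by
      rw [hker, Preadditive.sub_comp, Category.assoc (g ≫ π) σ π, hσ, Category.comp_id, sub_self]
    haveI : L.Additive := adj.left_adjoint_additive
    rw [show (adj.homEquiv F S.X₃).symm (g - (g ≫ π) ≫ σ) =
      (adj.homEquiv F S.X₃).symm g - (adj.homEquiv F S.X₃).symm ((g ≫ π) ≫ σ) from
      map_sub (adj.homAddEquiv F S.X₃).symm _ _, mk₀_sub', sub_comp', sub_eq_zero, Equiv.symm_apply_apply,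
      hy] at h0
    exact h0.symm

/-- The universal class. -/
theorem exists_univ (adj : L ⊣ R) : ∀ (c : ℕ) (Z : A) (W : B), (c = 0 ∨ Injective (R.obj Z)) →
    (∀ q, 0 < q → q < c → IsZero ((R.rightDerived q).obj Z)) → (W ≅ (R.rightDerived c).obj Z) →
    ∃ ξ : Ext.{v} (L.obj W) Z c, IsUniv L ξ := by
  intro c
  induction c with
  | zero => exact fun Z W _ _ e => exists_univ_zero adj (e ≪≫ R.rightDerivedZeroIsoSelf.app Z)
  | succ c ih =>
    intro Z W h0 hz e
    haveI : Injective (R.obj Z) := h0.resolve_left (Nat.succ_ne_zero c)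
    rcases Nat.eq_zero_or_pos c with rfl | hc
    · exact exists_univ_one adj e
    let S := ShortComplex.mk (Injective.ι Z) (cokernel.π (Injective.ι Z)) (cokernel.condition _)
    have hS : S.ShortExact :=
      { exact := ShortComplex.exact_of_g_is_cokernel _ (cokernelIsCokernel _)
        mono_f := inferInstanceAs (Mono (Injective.ι Z)) }
    haveI : Injective S.X₂ := inferInstanceAs (Injective (Injective.under Z))
    haveI := hS.mono_f
    haveI : Injective (R.obj S.X₂) := Injective.injective_of_adjoint adj S.X₂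
    obtain ⟨e'⟩ := H15Site.HigherDirect.nonempty_rightDerived_one_iso R hS (R.isZero_rightDerived_obj_injective_succ 0 _)
    haveI : Epi (R.map S.g) := Abelian.epi_of_cokernel_π_eq_zero _ (((hz 1 one_pos (by omega)).of_iso e'.symm).eq_of_tgt _ _)
    have hSR : (S.map R).ShortExact :=
      { exact := hS.exact.map_of_mono_of_preservesKernel R inferInstance inferInstance
        mono_f := inferInstanceAs (Mono (R.map S.f))
        epi_g := inferInstanceAs (Epi (R.map S.g)) }
    haveI : Injective (S.map R).X₁ := inferInstanceAs (Injective (R.obj Z))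
    haveI : Injective (S.map R).X₂ := inferInstanceAs (Injective (R.obj S.X₂))
    let sp := hSR.splittingOfInjective
    have hinj : Injective (R.obj S.X₃) := ⟨fun {X Y} u i _ => ⟨Injective.factorThru (u ≫ sp.s) i ≫ R.map S.g, by
      rw [Injective.comp_factorThru_assoc, Category.assoc, show sp.s ≫ R.map S.g = 𝟙 _ from sp.s_g]
      exact Category.comp_id u⟩⟩
    have hshift : ∀ p : ℕ, Nonempty ((R.rightDerived (p + 1)).obj S.X₃ ≅ (R.rightDerived (p + 1 + 1)).obj Z) :=
      fun p => H15Site.HigherDirect.nonempty_rightDerived_succ_iso R hS p (R.isZero_rightDerived_obj_injective_succ p _)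
        (R.isZero_rightDerived_obj_injective_succ (p + 1) _)
    obtain ⟨m, rfl⟩ : ∃ m, c = m + 1 := ⟨c - 1, by omega⟩
    obtain ⟨ξ, hξ⟩ := ih S.X₃ W (Or.inr hinj) (fun q hq hq' => by
      obtain ⟨p, rfl⟩ : ∃ p, q = p + 1 := ⟨q - 1, by omega⟩
      exact (hz (p + 1 + 1) (Nat.succ_pos _) (by omega)).of_iso (hshift p).some) (e ≪≫ (hshift m).some.symm)
    refine ⟨ξ.comp hS.extClass rfl, fun F => ?_⟩
    have hb : Function.Bijective fun x : Ext.{v} (L.obj F) S.X₃ (m + 1) => x.comp hS.extClass rfl := by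
      refine ⟨(injective_iff_map_eq_zero (hS.extClass.postcomp (L.obj F) rfl)).2 fun x hx => ?_,
        fun y => Ext.covariant_sequence_exact₁ _ hS y (Ext.eq_zero_of_injective _) rfl⟩
      obtain ⟨x₂, rfl⟩ := Ext.covariant_sequence_exact₃ _ hS x rfl hx
      rw [Ext.eq_zero_of_injective x₂, Ext.zero_comp]
    have : (fun φ : F ⟶ W => (Ext.mk₀ (L.map φ)).comp (ξ.comp hS.extClass rfl) (zero_add _)) =
        (fun x : Ext.{v} (L.obj F) S.X₃ (m + 1) => x.comp hS.extClass rfl) ∘
          fun φ : F ⟶ W => (Ext.mk₀ (L.map φ)).comp ξ (zero_add _) := by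
      funext φ
      exact (Ext.comp_assoc _ ξ hS.extClass (zero_add (m + 1)) rfl (by omega)).symm
    rw [this]
    exact hb.comp (hξ F)

end Groth.Agent.H17.DualSh
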