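import Groth.Agent.H17.DualSh.Pair
import Groth.Agent.H17.DualSh.Universal
import Groth.Agent.H17.PnExt.Shape
import Groth.Agent.H17.EdgeIso.Codim
import Groth.Agent.H10Inj.SheafExt.ChangeRings
import Groth.Agent.H29CurveDual.PushH1
import Groth.Agent.S10943

/-!
# The dualizing sheaf of a closed subscheme of projective space
-/

set_option autoImplicit false
set_option linter.style.haveILetI false
set_option linter.unusedSectionVars false
set_option synthInstance.maxHeartbeats 800000
set_option maxHeartbeats 1600000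
set_option backward.isDefEq.respectTransparency false

universe u

open CategoryTheory CategoryTheory.Limits CategoryTheory.Abelian AlgebraicGeometry Opposite
open Groth.Agent.H10Coh
open scoped ZeroObject

namespace Groth.Agent.H17.DualSh

open Groth.Agent.H17.PnExt

attribute [local instance 10000] hasSheafifyAb hasWeakSheafifyAb hasExtAb enoughInjAb

theorem theta_bijective_proj (k : Type u) [Field k] (N : ℕ) [HasExt.{u} (Proj (Pn.Gr N k)).Modules] :
    letI : (Proj (Pn.Gr N k)).Over (Spec (CommRingCat.of k)) := ⟨Pn.toS N k⟩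
    ∃ t : Coh.HH (Proj (Pn.Gr N k)) (Pn.Od N k (-((N : ℤ) + 1))) N →ₗ[k] k,
      ∀ j, j ≤ N → ∀ G, Coh.IsCoh G → ∀ (q : ℕ) (h : q + j = N), Function.Bijective (theta t G h) := by
  letI : (Proj (Pn.Gr N k)).Over (Spec (CommRingCat.of k)) := ⟨Pn.toS N k⟩
  haveI : IsNoetherian (Proj (Pn.Gr N k)) := ProjQ.isNoetherian_proj (Pn.Gr N k)
  refine ⟨H29Serre.trace N k, theta_bijective (H29Serre.trace N k) Coh.IsCoh N le_rfl
    (fun G hG => H29Serre.repDual_coherent N G hG) fun G hG j _ => ?_⟩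
  obtain ⟨r, m, p, hp⟩ := H29Serre.exists_epi_negative (R := k) N G hG
  have hE : Coh.IsCoh (∐ fun _ : Fin r => Pn.Od N k (H29Serre.tw N m)) :=
    isCoh_sigma _ fun _ => ProjQ.isCoh_tilde_twist (Pn.Gr N k) _
  have htw : H29Serre.tw N m ≤ -((N : ℤ) + 1) := H29Serre.tw_le N m
  exact ⟨ShortComplex.mk (kernel.ι p) p (kernel.condition p),
    { exact := ShortComplex.exact_of_f_is_kernel _ (kernelIsKernel p) }, rfl, isCoh_kernel p hE hG.1, hE,
    fun i hi _ => subsingleton_ext_sigma _ _ i fun _ => subsingleton_ext_negative N k htw hi,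
    fun q _ hq => subsingleton_HH_sigma (k := k) _ q fun _ => Pn.subsingleton_HH_Od q (by omega) (by omega)⟩

theorem theta_bijective_projSpace (k : Type u) [Field k] (N : ℕ) [I : HasExt.{u} (CohB1.ProjSpace N k).Modules] :
    ∃ t : Coh.HH (CohB1.ProjSpace N k) (Twist.twistProjSpace N k (-((N : ℤ) + 1))) N →ₗ[k] k,
      ∀ j, j ≤ N → ∀ G, Coh.IsCoh G → ∀ (q : ℕ) (h : q + j = N), Function.Bijective (theta t G h) :=
  @theta_bijective_proj k _ N I

variable {k : Type u} [Field k] {N : ℕ} {X : Scheme.{u}}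

/-- A module is coherent as soon as its direct image along a closed immersion is. -/
theorem isCoh_of_push {P : Scheme.{u}} (ι : X ⟶ P) [IsClosedImmersion ι] {ω : X.Modules}
    (h : Coh.IsCoh ((Scheme.Modules.pushforward ι).obj ω)) : Coh.IsCoh ω := by
  haveI := H16Derived.ProjFormula.isIso_counit_of_isClosedImmersion ι ω
  exact isCoh_of_iso (asIso ((H16Derived.ProjFormula.adj ι).counit.app ω))
    (⟨H29Fitt.isQCoh_pullback _ _ h.1, H29Fitt.isFT_pullback _ _ h.1 h.2⟩)

/-- A sheaf whose direct image is `Ext^c(ι_* O, O(a))` is coherent. -/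
theorem isCoh_dualizing (ι : X ⟶ CohB1.ProjSpace N k) [IsClosedImmersion ι]
    [ModSite.HasSheafHom (O := (CohB1.ProjSpace N k).sheaf) ((Scheme.Modules.pushforward ι).obj (Coh.structureModule X))]
    [HasInjectiveResolutions (ModSite.Mod (CohB1.ProjSpace N k).sheaf)] {c : ℕ} {a : ℤ} {ω : X.Modules}
    (hω : Nonempty ((Scheme.Modules.pushforward ι).obj ω ≅
      (ModSite.extSh (O := (CohB1.ProjSpace N k).sheaf) ((Scheme.Modules.pushforward ι).obj (Coh.structureModule X)) c).obj
        (Twist.twistProjSpace N k a))) :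
    Coh.IsCoh ω := by
  haveI : IsNoetherian (CohB1.ProjSpace N k) := ProjQ.isNoetherian_proj (Pn.Gr N k)
  haveI : IsLocallyNoetherian X := LocallyOfFiniteType.isLocallyNoetherian ι
  obtain ⟨e⟩ := hω
  refine isCoh_of_push ι (isCoh_of_iso e.symm (Groth.Agent.S10943.result _ _ _
    (isCoh_push_of_isFinite ι _ (isCoh_structureModule' X)) ?_ c))
  exact ProjQ.isCoh_tilde_twist (Pn.Gr N k) a

/-- The dualizing sheaf of a closed subscheme of projective space of codimension at least `c`. -/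
theorem exists_repDual_closed [X.Over (Spec (CommRingCat.of k))] (ι : X ⟶ CohB1.ProjSpace N k) [IsClosedImmersion ι]
    (hι : ι ≫ CohB1.ProjSpace.toSpec N k = X ↘ Spec (CommRingCat.of k)) {n c : ℕ} (hnc : n + c = N)
    (hd : topologicalKrullDim ↥X + (c : WithBot ℕ∞) ≤ (N : WithBot ℕ∞))
    [ModSite.HasSheafHom (O := (CohB1.ProjSpace N k).sheaf) ((Scheme.Modules.pushforward ι).obj (Coh.structureModule X))]
    [HasInjectiveResolutions (ModSite.Mod (CohB1.ProjSpace N k).sheaf)] (ω : X.Modules)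
    (hω : Nonempty ((Scheme.Modules.pushforward ι).obj ω ≅
      (ModSite.extSh (O := (CohB1.ProjSpace N k).sheaf) ((Scheme.Modules.pushforward ι).obj (Coh.structureModule X)) c).obj
        (Twist.twistProjSpace N k (-((N : ℤ) + 1))))) :
    ∃ t : Coh.HH X ω n →ₗ[k] k, ∀ F : X.Modules, Coh.IsCoh F → H29Serre.RepDual t F := by
  haveI : IsNoetherian (CohB1.ProjSpace N k) := ProjQ.isNoetherian_proj (Pn.Gr N k)
  haveI : IsLocallyNoetherian X := LocallyOfFiniteType.isLocallyNoetherian ι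
  haveI : IsGrothendieckAbelian.{u} (CohB1.ProjSpace N k).Modules := H10Coh.isGrothendieckAbelian_sheafOfModules _
  haveI : EnoughInjectives (CohB1.ProjSpace N k).Modules := inferInstance
  haveI : HasExt.{u} (CohB1.ProjSpace N k).Modules := inferInstance
  haveI : HasInjectiveResolutions (CohB1.ProjSpace N k).Modules :=
    ‹HasInjectiveResolutions (ModSite.Mod (CohB1.ProjSpace N k).sheaf)›
  haveI hωq : ω.IsQuasicoherent := (isCoh_dualizing ι hω).1
  let O := Coh.structureModule X
  let ωP := Twist.twistProjSpace N k (-((N : ℤ) + 1))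
  let R := H10Inj.SheafExt.changeFunctor ι O
  let L := H16Derived.ProjFormula.push ι
  let adj : L ⊣ R := (H10Inj.SheafExt.changeAdj ι O).ofNatIsoLeft
    (Functor.isoWhiskerRight (H15Site.ModOver.tensorUnitIso X.sheaf) L ≪≫ L.leftUnitor)
  haveI : L.PreservesHomology := H16Derived.ProjFormula.preservesHomology_push ι
  haveI : PreservesFiniteLimits L := L.preservesFiniteLimits_of_preservesHomology
  haveI : L.PreservesMonomorphisms := inferInstance
  have hzero : ∀ q, q < c → IsZero ((R.rightDerived q).obj ωP) := fun q hq => by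
    have hz : IsZero (((H10Inj.SheafExt.homFunctor ((Scheme.Modules.pushforward ι).obj O)).rightDerived q).obj ωP) :=
      (EdgeIso.isZero_extSh_below ι hd hq (fun x => by
        obtain ⟨U, hxU, ⟨e⟩⟩ := H22Alg.RegSheaf.isInvertible_twistProjSpace N k (-((N : ℤ) + 1)) x
        exact ⟨U, 1, hxU, ⟨e ≪≫ (Limits.coproductUniqueIso fun _ : Fin 1 => Coh.structureModule (U : Scheme.{u})).symm⟩⟩)).of_iso
        (H10Inj.SheafExt.extShIso _ q ωP).symm
    haveI : L.PreservesZeroMorphisms := inferInstance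
    obtain ⟨e⟩ := H10Inj.SheafExt.nonempty_rightDerived_change ι O ωP q (0 : X.Modules)
      ((L.mapZeroObject).trans (hz.isoZero).symm)
    exact (isZero_zero _).of_iso e
  obtain ⟨e⟩ := hω
  obtain ⟨ec⟩ := H10Inj.SheafExt.nonempty_rightDerived_change ι O ωP c ω
    (e ≪≫ H10Inj.SheafExt.extShIso _ c ωP)
  obtain ⟨ξ, hξ⟩ := exists_univ adj c ωP ω (by
    rcases Nat.eq_zero_or_pos c with hc | hc
    · exact Or.inl hc
    · have hz := (hzero 0 hc).of_iso (R.rightDerivedZeroIsoSelf.app ωP).symm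
      exact Or.inr ⟨fun _ _ _ => ⟨0, hz.eq_of_tgt _ _⟩⟩)
    (fun q _ hq => hzero q hq) ec.symm
  have hι' : ι ≫ (CohB1.ProjSpace N k ↘ Spec (CommRingCat.of k)) = X ↘ Spec (CommRingCat.of k) := hι
  obtain ⟨tP, htP⟩ := theta_bijective_projSpace k N
  refine ⟨(theta tP _ hnc ξ) ∘ₗ (H29CurveDual.pushIso ι hι' ω n).symm.toLinearMap, fun F hF ψ => ?_⟩
  haveI : F.IsQuasicoherent := hF.1
  have hb : Function.Bijective fun φ : F ⟶ ω => theta tP (L.obj F) hnc ((Ext.mk₀ (L.map φ)).comp ξ (zero_add c)) :=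
    (htP c (by omega) _ (isCoh_push_of_isFinite ι _ hF) n hnc).comp (hξ F)
  have key : ∀ φ : F ⟶ ω, theta tP (L.obj F) hnc ((Ext.mk₀ (L.map φ)).comp ξ (zero_add c)) =
      ((theta tP _ hnc ξ) ∘ₗ (H29CurveDual.pushIso ι hι' ω n).symm.toLinearMap ∘ₗ Canon.HHlin k φ n) ∘ₗ
        (H29CurveDual.pushIso ι hι' F n).toLinearMap := fun φ => by
    refine LinearMap.ext fun x => ?_
    rw [theta_mk₀_comp]
    simp only [LinearMap.comp_apply, LinearEquiv.coe_coe]
    rw [← H29CurveDual.pushIso_natural ι hι' φ n x]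
    exact congrArg _ ((H29CurveDual.pushIso ι hι' ω n).symm_apply_apply _).symm
  obtain ⟨φ, hφ⟩ := hb.2 (ψ ∘ₗ (H29CurveDual.pushIso ι hι' F n).toLinearMap)
  have cancel : ∀ a b : Coh.HH X F n →ₗ[k] k, a ∘ₗ (H29CurveDual.pushIso ι hι' F n).toLinearMap =
      b ∘ₗ (H29CurveDual.pushIso ι hι' F n).toLinearMap → a = b := fun a b h => LinearMap.ext fun y => by
    obtain ⟨x, rfl⟩ := (H29CurveDual.pushIso ι hι' F n).surjective y
    exact LinearMap.congr_fun h x
  refine ⟨φ, (cancel _ _ ((key φ).symm.trans hφ)).symm, fun φ' hφ' => hb.1 ?_⟩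
  change theta tP (L.obj F) hnc ((Ext.mk₀ (L.map φ')).comp ξ (zero_add c)) =
    theta tP (L.obj F) hnc ((Ext.mk₀ (L.map φ)).comp ξ (zero_add c))
  rw [show theta tP (L.obj F) hnc ((Ext.mk₀ (L.map φ)).comp ξ (zero_add c)) = _ from hφ, key φ', hφ']
  rfl

end Groth.Agent.H17.DualSh
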