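import Groth.Agent.H17.DualSh.Efface
import Groth.Agent.H17.EdgeIso.ClosedVan
import Groth.Agent.H17.DualSh.Closed

/-!
# Duality on a closed subscheme of projective space
-/

set_option autoImplicit false
set_option linter.style.haveILetI false
set_option linter.unusedSectionVars false
set_option synthInstance.maxHeartbeats 800000
set_option maxHeartbeats 1600000
set_option backward.isDefEq.respectTransparency false

universe u

open CategoryTheory CategoryTheory.Limits CategoryTheory.Abelian AlgebraicGeometry Opposite TopologicalSpace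
open Groth.Agent.H10Coh
open Groth.Agent.H17.EdgeIso

namespace Groth.Agent.H17.DualSh

variable {k : Type u} [Field k] {N n : ℕ} {X : Scheme.{u}} [X.Over (Spec (CommRingCat.of k))]
  (ι : X ⟶ CohB1.ProjSpace N k) [IsClosedImmersion ι]
  (hι : ι ≫ CohB1.ProjSpace.toSpec N k = X ↘ Spec (CommRingCat.of k)) [HasExt.{u} X.Modules]
  {ω : X.Modules} (hω : Coh.IsCoh ω) {t : Coh.HH X ω n →ₗ[k] k}
  (hrep : ∀ F : X.Modules, Coh.IsCoh F → H29Serre.RepDual t F)

omit [HasExt.{u} X.Modules] [IsClosedImmersion ι] in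
/-- The pointwise formulation of `RepDual`. -/
theorem repDual_of_forall {ω : X.Modules} {t : Coh.HH X ω n →ₗ[k] k}
    (h : ∀ F : X.Modules, Coh.IsCoh F → ∀ ψ : Coh.HH X F n →ₗ[k] k,
        ∃! φ : F ⟶ ω, ∀ x : Coh.HH X F n,
          ψ x = t (Sheaf.H.map ((SheafOfModules.toSheaf X.ringCatSheaf).map φ) n x)) :
    ∀ F : X.Modules, Coh.IsCoh F → H29Serre.RepDual t F := fun F hF ψ => by
  obtain ⟨φ, h1, h2⟩ := h F hF ψ
  exact ⟨φ, LinearMap.ext h1, fun φ' h => h2 φ' (LinearMap.congr_fun h)⟩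

include hι hω hrep in
/-- Duality in the range where the very negative twists have no cohomology. -/
theorem theta_bijective_range {s : ℕ} (hs : s ≤ n)
    (hvan : ∀ q, q < n → n ≤ q + s → ∃ m₀ : ℕ, ∀ m : ℕ, m₀ ≤ m → Subsingleton (Coh.HH X (twX ι (-(m : ℤ))) q))
    {F : X.Modules} (hF : Coh.IsCoh F) {i q : ℕ} (hi : i ≤ s) (h : q + i = n) :
    Function.Bijective (theta t F h) :=
  theta_bijective t Coh.IsCoh s hs hrep (fun G hG j _ => by
    obtain ⟨S, hS, h1, h2, h3, h4, h5⟩ := exists_efface ι hι hω n (fun q => n ≤ q + s) hvan G hG j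
    exact ⟨S, hS, h1, h2, h3, h4, fun q hq hq' => h5 q hq' hq⟩) i hi F hF q h

include hι hω hrep in
/-- No Ext above the dimension. -/
theorem subsingleton_ext_gt
    (hvan : ∀ q, q < n → ∃ m₀ : ℕ, ∀ m : ℕ, m₀ ≤ m → Subsingleton (Coh.HH X (twX ι (-(m : ℤ))) q))
    {F : X.Modules} (hF : Coh.IsCoh F) {i : ℕ} (hi : n < i) : Subsingleton (Ext.{u} F ω i) := by
  obtain ⟨m, rfl⟩ : ∃ m, i = n + 1 + m := ⟨i - (n + 1), by omega⟩
  refine subsingleton_ext_above t Coh.IsCoh hrep (fun G hG j => ?_) m F hF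
  obtain ⟨S, hS, h1, h2, h3, h4, h5⟩ := exists_efface ι hι hω n (fun _ => True) (fun q hq _ => hvan q hq) G hG j
  exact ⟨S, hS, h1, h2, h3, h4, fun q hq => h5 q hq trivial⟩

end Groth.Agent.H17.DualSh
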