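import Groth.Agent.H8Props.FieldDimEquidim
import Groth.Agent.H17.DualSh.Main
import Groth.Agent.H17.PnExt.LocFreeExt

/-!
# Closed points of equidimensional schemes over a field
-/

set_option autoImplicit false
set_option linter.style.haveILetI false
set_option linter.unusedSectionVars false
set_option synthInstance.maxHeartbeats 800000
set_option maxHeartbeats 1600000
set_option backward.isDefEq.respectTransparency false

universe u

open CategoryTheory AlgebraicGeometry TopologicalSpace

namespace Groth.Agent.H17.DualSh

open H8Props H8Props.FieldDim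

theorem cdim_closed {X : Type*} [TopologicalSpace X] {x : X} (hx : IsClosed ({x} : Set X)) : cdim x = 0 := by
  unfold cdim
  rw [hx.closure_eq]
  haveI : Subsingleton (TopologicalSpace.IrreducibleCloseds ↥({x} : Set X)) := ⟨fun a b => by
    refine TopologicalSpace.IrreducibleCloseds.ext ?_
    exact (Set.eq_univ_of_forall fun y => by
      obtain ⟨z, hz⟩ := a.isIrreducible.nonempty
      rwa [Subsingleton.elim y z]).trans (Set.eq_univ_of_forall fun y => by
      obtain ⟨z, hz⟩ := b.isIrreducible.nonempty
      rwa [Subsingleton.elim y z]).symm⟩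
  haveI : Nonempty (TopologicalSpace.IrreducibleCloseds ↥({x} : Set X)) :=
    ⟨⟨closure {⟨x, rfl⟩}, isIrreducible_singleton.closure, isClosed_closure⟩⟩
  exact Order.krullDim_eq_zero

/-- Local rings at closed points of a pure dimensional scheme. -/
theorem ringKrullDim_closed {k : Type u} [Field k] {X : Scheme.{u}} (q : X ⟶ Spec (CommRingCat.of k))
    [LocallyOfFiniteType q] (n : ℕ)
    (heq : ∀ Z : Set ↥X, Z ∈ irreducibleComponents ↥X → topologicalKrullDim ↥Z = (n : WithBot ℕ∞))
    (x : X) (hx : IsClosed ({x} : Set ↥X)) : ringKrullDim (X.presheaf.stalk x) = n := by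
  have h := localDim_eq_stalk_add_cdim q x
  rw [localDim_eq_of_pure q x n heq, cdim_closed hx, add_zero] at h
  exact h.symm

end Groth.Agent.H17.DualSh
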