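import Groth.Agent.H8Props.FieldDimScheme

/-!
# Dimension from the irreducible components
-/

set_option autoImplicit false

universe u

open CategoryTheory AlgebraicGeometry TopologicalSpace

namespace Groth.Agent.H17.DualSh

open H8Props H8Props.FieldDim

theorem dim_le_of_components {Z : Scheme.{u}} {n : WithBot ℕ∞}
    (h : ∀ T : Set ↥Z, T ∈ irreducibleComponents ↥Z → topologicalKrullDim ↥T = n) :
    topologicalKrullDim ↥Z ≤ n := by
  rw [dim_eq_iSup_cdim]
  refine iSup_le fun z => ?_
  obtain ⟨T, hT, hzT⟩ := exists_mem_irreducibleComponents_subset_of_isIrreducible (closure ({z} : Set Z))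
    (isIrreducible_singleton.closure)
  exact ((Topology.IsEmbedding.inclusion hzT).isInducing.topologicalKrullDim_le).trans (h T hT).le

theorem add_sub_le {a : WithBot ℕ∞} {r n : ℕ} (hr : r ≤ n) (h : a ≤ (r : WithBot ℕ∞)) :
    a + ((n - r : ℕ) : WithBot ℕ∞) ≤ (n : WithBot ℕ∞) := by
  refine (add_le_add_left h _).trans ?_
  rw [← Nat.cast_add, Nat.add_sub_cancel' hr]

end Groth.Agent.H17.DualSh
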