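import Groth.Agent.H17.DualSh.Pair
import Groth.Agent.H17.EdgeIso.CMDual
import Groth.Agent.H10Coh.FinType2
import Groth.Agent.H17.PnExt.Main

/-!
# Effacement by very negative twists on a closed subscheme of projective space
-/

set_option autoImplicit false
set_option linter.style.haveILetI false
set_option linter.unusedSectionVars false
set_option synthInstance.maxHeartbeats 800000
set_option maxHeartbeats 1600000
set_option backward.isDefEq.respectTransparency false

universe u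

open CategoryTheory CategoryTheory.Limits CategoryTheory.Abelian AlgebraicGeometry Opposite TopologicalSpace
open Groth.Agent.H10Coh
open Groth.Agent.H17.EdgeIso

namespace Groth.Agent.H17.DualSh

variable {k : Type u} [Field k] {N : ℕ} {X : Scheme.{u}} [X.Over (Spec (CommRingCat.of k))]

/-- Serre vanishing for `Ext^i(O(-q), ω)`. -/
theorem exists_subsingleton_ext_twX (ι : X ⟶ CohB1.ProjSpace N k) [IsClosedImmersion ι]
    (hι : ι ≫ CohB1.ProjSpace.toSpec N k = X ↘ Spec (CommRingCat.of k)) [HasExt.{u} X.Modules]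
    {ω : X.Modules} (hω : Coh.IsCoh ω) (i : ℕ) :
    ∃ q₀ : ℕ, ∀ q : ℕ, q₀ ≤ q → Subsingleton (Ext.{u} (twX ι (-(q : ℤ))) ω (i + 1)) := by
  haveI : IsNoetherian (CohB1.ProjSpace N k) := ProjQ.isNoetherian_proj (Pn.Gr N k)
  haveI : IsLocallyNoetherian X := LocallyOfFiniteType.isLocallyNoetherian ι
  haveI : IsGrothendieckAbelian.{u} X.Modules := H10Coh.isGrothendieckAbelian_sheafOfModules _
  haveI : EnoughInjectives X.Modules := inferInstance
  haveI := hasInjectiveResolutions X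
  let O := Coh.structureModule X
  have hO : FlatMod.IsFinLocFree O := fun x => ⟨⊤, 1, trivial,
    ⟨(Scheme.Modules.restrictUnitIso (⊤ : X.Opens).ι) ≪≫
      (coproductUniqueIso fun _ : Fin 1 => Coh.structureModule ((⊤ : X.Opens) : Scheme.{u})).symm⟩⟩
  have hOc : Coh.IsCoh O := isCoh_structureModule' X
  haveI : ModSite.HasSheafHom (O := X.sheaf) O := hasSheafHom O
  obtain ⟨d₀, hd₀⟩ := exists_ext_linearEquiv_sections ι hι O ω hOc hω (i + 1)
  refine ⟨d₀, fun q hq => ?_⟩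
  let L := twX ι (-(q : ℤ))
  let L' := twX ι (q : ℤ)
  obtain ⟨eT⟩ := ((H10Coh.Stab.isTwistFamily_projSpace N k).pullback ι).add (-(q : ℤ)) q
  obtain ⟨e0⟩ := ((H10Coh.Stab.isTwistFamily_projSpace N k).pullback ι).zero
  let eu : CohB1.tensorMod L L' ≅ Coh.structureModule X :=
    eT ≪≫ eqToIso (congrArg (twX ι) (neg_add_cancel (q : ℤ))) ≪≫ e0
  haveI : ((DCoh.tensorBi (X := X)).obj L).IsEquivalence :=
    H15Site.Invertible.isEquivalence_of_iso_unit (O := X.sheaf) (L := L) (N := L') eu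
  let E := ((DCoh.tensorBi (X := X)).obj L).asEquivalence
  haveI : E.inverse.Additive := Functor.additive_of_preserves_binary_products _
  obtain ⟨f⟩ := H10Inj.SheafExt.nonempty_ext_adj E.toAdjunction O ω (i + 1)
  let u : (DCoh.tensorBi (X := X)).obj L' ⋙ (DCoh.tensorBi (X := X)).obj L ≅ 𝟭 X.Modules :=
    H15Site.Invertible.tLComp (O := X.sheaf) L L' ≪≫ (DCoh.tensorBi (X := X)).mapIso eu ≪≫
      H15Site.ModOver.tensorUnitIso X.sheaf
  let e : E.inverse.obj ω ≅ CohB1.tensorMod ω L' :=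
    E.inverse.mapIso (u.app ω).symm ≪≫ (E.unitIso.app (((DCoh.tensorBi (X := X)).obj L').obj ω)).symm ≪≫
      H15Site.Invertible.symmIso (O := X.sheaf) L' ω
  have h0 : Subsingleton (Abelian.Ext O (CohB1.tensorMod ω L') (i + 1)) := by
    obtain ⟨ee⟩ := hd₀ q hq
    obtain ⟨M, hM⟩ : ∃ M : X.Modules, M = (ModSite.extSh (O := X.sheaf) O (i + 1)).obj (CohB1.tensorMod ω L') :=
      ⟨_, rfl⟩
    haveI : Subsingleton (Coh.HH X ((ModSite.extSh (O := X.sheaf) O (i + 1)).obj (CohB1.tensorMod ω L')) 0) := by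
      have hz : IsZero M := by rw [hM]; exact isZero_extSh_of_flf hO (CohB1.tensorMod ω L') i
      change Subsingleton (Coh.HH X ((ModSite.extSh (O := X.sheaf) O (i + 1)).obj (CohB1.tensorMod ω L') : X.Modules) 0)
      rw [← hM]
      haveI : Subsingleton Γ(M, ⊤) :=
        ⟨fun a b => by
          have h := congrArg (fun f : M ⟶ M => f.app ⊤) (hz.eq_of_src (𝟙 M) 0)
          exact (ConcreteCategory.congr_hom h a).trans (ConcreteCategory.congr_hom h b).symm⟩
      exact (HH0Equiv _).toEquiv.subsingleton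
    exact ee.toEquiv.subsingleton
  have h1 : Subsingleton (Abelian.Ext (((DCoh.tensorBi (X := X)).obj L).obj O) ω (i + 1)) :=
    haveI := subsingleton_ext_of_iso e.symm h0
    f.toEquiv.subsingleton
  let eL : L ≅ ((DCoh.tensorBi (X := X)).obj L).obj O :=
    ((H15Site.ModOver.tensorUnitIso X.sheaf).app L).symm ≪≫ H15Site.Invertible.symmIso (O := X.sheaf) O L
  refine subsingleton_of_forall_eq 0 fun x => ?_
  rw [← Ext.mk₀_id_comp x, ← eL.hom_inv_id, ← Ext.mk₀_comp_mk₀_assoc,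
    h1.elim ((Ext.mk₀ eL.inv).comp x (zero_add _)) 0, Ext.comp_zero]

/-- Serre vanishing, uniformly in bounded degree. -/
theorem exists_bound_ext (ι : X ⟶ CohB1.ProjSpace N k) [IsClosedImmersion ι]
    (hι : ι ≫ CohB1.ProjSpace.toSpec N k = X ↘ Spec (CommRingCat.of k)) [HasExt.{u} X.Modules]
    {ω : X.Modules} (hω : Coh.IsCoh ω) (j : ℕ) :
    ∃ q₀ : ℕ, ∀ q : ℕ, q₀ ≤ q → ∀ i, 0 < i → i ≤ j → Subsingleton (Ext.{u} (twX ι (-(q : ℤ))) ω i) := by
  choose d hd using fun i => exists_subsingleton_ext_twX ι hι hω i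
  refine ⟨(Finset.range j).sup d, fun q hq i hi hij => ?_⟩
  obtain ⟨i', rfl⟩ : ∃ i', i = i' + 1 := ⟨i - 1, by omega⟩
  exact hd i' q ((Finset.le_sup (Finset.mem_range.2 (by omega))).trans hq)

/-- A coherent module is a quotient of copies of any very negative twist. -/
theorem exists_epi_twX (ι : X ⟶ CohB1.ProjSpace N k) [IsClosedImmersion ι] {F : X.Modules} (hF : Coh.IsCoh F)
    (b : ℕ) :
    ∃ (r q : ℕ) (p : (∐ fun _ : Fin r => twX ι (-(q : ℤ))) ⟶ F), b ≤ q ∧ Epi p := by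
  haveI : IsNoetherian (CohB1.ProjSpace N k) := ProjQ.isNoetherian_proj (Pn.Gr N k)
  have hP := isCoh_push_of_isFinite ι F hF
  obtain ⟨n₀, h⟩ := H11Tilde.eventually_quotient_negative_twists (Pn.Gr N k)
    (Set.finite_range (MvPolynomial.X : Fin (N + 1) → MvPolynomial (Fin (N + 1)) k)).toFinset
    (fun f hf => by
      obtain ⟨i, rfl⟩ := (Set.Finite.mem_toFinset _).1 hf
      exact H11Proj.ProjSpace.X_mem N k i)
    (H29Serre.irrelevant_eq_span_X N) ((Scheme.Modules.pushforward ι).obj F) hP.1 hP.2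
  obtain ⟨r, p, hp⟩ := h (max n₀ b) (le_max_left _ _)
  let T : (CohB1.ProjSpace N k).Modules := Twist.twistProjSpace N k (-((max n₀ b : ℕ) : ℤ))
  let p' : (∐ fun _ : Fin r => T) ⟶ (Scheme.Modules.pushforward ι).obj F := p
  haveI : Epi p' := hp
  let adj := H16Derived.ProjFormula.adj ι
  haveI := H16Derived.ProjFormula.isIso_counit_of_isClosedImmersion ι F
  haveI : (Scheme.Modules.pullback ι).IsLeftAdjoint := adj.isLeftAdjoint
  refine ⟨r, max n₀ b, (PreservesCoproduct.iso (Scheme.Modules.pullback ι) fun _ : Fin r => T).inv ≫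
    (Scheme.Modules.pullback ι).map p' ≫ adj.counit.app F, le_max_right _ _, ?_⟩
  haveI : Epi ((Scheme.Modules.pullback ι).map p') := inferInstance
  infer_instance

/-- The effacing sequences. -/
theorem exists_efface (ι : X ⟶ CohB1.ProjSpace N k) [IsClosedImmersion ι]
    (hι : ι ≫ CohB1.ProjSpace.toSpec N k = X ↘ Spec (CommRingCat.of k)) [HasExt.{u} X.Modules]
    {ω : X.Modules} (hω : Coh.IsCoh ω) (n : ℕ) (P : ℕ → Prop)
    (hvan : ∀ q, q < n → P q → ∃ m₀ : ℕ, ∀ m : ℕ, m₀ ≤ m → Subsingleton (Coh.HH X (twX ι (-(m : ℤ))) q))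
    (F : X.Modules) (hF : Coh.IsCoh F) (j : ℕ) :
    ∃ (S : ShortComplex X.Modules) (_ : S.ShortExact),
      S.X₃ = F ∧ Coh.IsCoh S.X₁ ∧ Coh.IsCoh S.X₂ ∧ (∀ i, 0 < i → i ≤ j → Subsingleton (Ext.{u} S.X₂ ω i)) ∧
        ∀ q, q < n → P q → Subsingleton (Coh.HH X S.X₂ q) := by
  classical
  haveI : IsNoetherian (CohB1.ProjSpace N k) := ProjQ.isNoetherian_proj (Pn.Gr N k)
  haveI : IsLocallyNoetherian X := LocallyOfFiniteType.isLocallyNoetherian ι
  obtain ⟨q₁, hq₁⟩ := exists_bound_ext ι hι hω j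
  choose d hd using hvan
  let d' : ℕ → ℕ := fun q => if h : q < n ∧ P q then d q h.1 h.2 else 0
  obtain ⟨r, m, p, hm, hp⟩ := exists_epi_twX ι hF (max q₁ ((Finset.range n).sup d'))
  have hE : Coh.IsCoh (∐ fun _ : Fin r => twX ι (-(m : ℤ))) :=
    isCoh_sigma _ fun _ => H10Coh.Tw.isCoh_of_vb (isFinLocFree_twX ι _)
  refine ⟨ShortComplex.mk (kernel.ι p) p (kernel.condition p),
    { exact := ShortComplex.exact_of_f_is_kernel _ (kernelIsKernel p) }, rfl, isCoh_kernel p hE hF.1, hE,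
    fun i hi hij => PnExt.subsingleton_ext_sigma _ _ i fun _ => hq₁ m ((le_max_left _ _).trans hm) i hi hij,
    fun q hq hP => PnExt.subsingleton_HH_sigma (k := k) _ q fun _ => hd q hq hP m ?_⟩
  have h1 : d' q ≤ m := ((Finset.le_sup (Finset.mem_range.2 hq)).trans (le_max_right _ _)).trans hm
  simpa only [d', dif_pos (And.intro hq hP)] using h1

/-- Vanishing below the dimension for a Cohen–Macaulay equidimensional scheme. -/
theorem van_of_cm (ι : X ⟶ CohB1.ProjSpace N k) [IsClosedImmersion ι] {n : ℕ}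
    (hn : topologicalKrullDim ↥X = n)
    (hCM : ∀ x : X, IsClosed ({x} : Set ↥X) →
      LocCoh.IsCohenMacaulayLocalRing (X.presheaf.stalk x) ∧ ringKrullDim (X.presheaf.stalk x) = n) :
    ∀ q, q < n → ∃ m₀ : ℕ, ∀ m : ℕ, m₀ ≤ m → Subsingleton (Coh.HH X (twX ι (-(m : ℤ))) q) := by
  intro q hq
  obtain ⟨q₀, h⟩ := (Groth.Agent.S10934.result k N n ι hn).1 hCM (Coh.structureModule X) (fun x => ⟨⊤, 1, trivial,
    ⟨(Scheme.Modules.restrictUnitIso (⊤ : X.Opens).ι) ≪≫
      (coproductUniqueIso fun _ : Fin 1 => Coh.structureModule ((⊤ : X.Opens) : Scheme.{u})).symm⟩⟩)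
  exact ⟨q₀, fun m hm => subsingleton_HH_of_iso (H10Coh.Tw.leftUnitIso (twX ι (-(m : ℤ)))) q (h m hm q hq)⟩

end Groth.Agent.H17.DualSh
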