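import Groth.Agent.H17.PnExt.Abstract
import Groth.Agent.H10Coh.ToSheaf
import Mathlib.Algebra.Homology.DerivedCategory.Ext.Map

/-!
# The Yoneda pairing `Ext^j(F, ω) × H^q(F) → k` and its perfectness by effacement
-/

set_option autoImplicit false
set_option linter.style.haveILetI false
set_option linter.unusedSectionVars false
set_option synthInstance.maxHeartbeats 400000
set_option maxHeartbeats 1000000
set_option backward.isDefEq.respectTransparency false

universe u

open CategoryTheory CategoryTheory.Limits CategoryTheory.Abelian AlgebraicGeometry Opposite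
open Groth.Agent.H10Coh

namespace Groth.Agent.H17.DualSh

open Groth.Agent.H17.PnExt

attribute [local instance 10000] hasSheafifyAb hasWeakSheafifyAb hasExtAb enoughInjAb

variable {k : Type u} [Field k] {X : Scheme.{u}} [X.Over (Spec (CommRingCat.of k))] [HasExt.{u} X.Modules]
  {n : ℕ} {ω : X.Modules}

instance preservesFiniteLimits_shF : PreservesFiniteLimits (shF X) :=
  inferInstanceAs (PreservesFiniteLimits (SheafOfModules.toSheaf X.ringCatSheaf))

instance preservesFiniteColimits_shF : PreservesFiniteColimits (shF X) :=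
  preservesFiniteColimits_toSheaf X.ringCatSheaf

/-- An Ext class between modules, on the underlying abelian sheaves. -/
noncomputable abbrev mapE {F G : X.Modules} {j : ℕ} (e : Ext.{u} F G j) :
    Ext.{u} ((shF X).obj F) ((shF X).obj G) j :=
  e.mapExactFunctor (shF X)

omit [X.Over (Spec (CommRingCat.of k))] in
theorem mapE_mk₀ {F G : X.Modules} (φ : F ⟶ G) : mapE (Ext.mk₀ φ) = Ext.mk₀ ((shF X).map φ) :=
  Ext.mapExactFunctor_mk₀ _ _

/-- `mk₀ (a • 𝟙) * e = a • e = e * mk₀ (a • 𝟙)`. -/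
theorem smulMod_comp {F G : X.Modules} {j : ℕ} (a : k) (e : Ext.{u} F G j) :
    (Ext.mk₀ (Formal.smulMod k F a)).comp e (zero_add j) = a • e ∧
      e.comp (Ext.mk₀ (Formal.smulMod k G a)) (add_zero j) = a • e := by
  rw [← KLin.smul_id F a, ← KLin.smul_id G a, Ext.mk₀_smul, Ext.mk₀_smul, Ext.smul_comp, Ext.comp_smul,
    Ext.mk₀_id_comp, Ext.comp_mk₀_id]
  exact ⟨rfl, rfl⟩

/-- The Yoneda product `H^q(F) → H^n(ω)` by an Ext class, `k`-linear. -/
noncomputable def cup {F : X.Modules} {j q : ℕ} (h : q + j = n) (e : Ext.{u} F ω j) :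
    Coh.HH X F q →ₗ[k] Coh.HH X ω n where
  toFun x := x.comp (mapE e) h
  map_add' x y := Ext.add_comp _ _ _ _
  map_smul' a x := by
    change (x.comp (Ext.mk₀ ((shF X).map (Formal.smulMod k F a))) (add_zero q)).comp (mapE e) h =
      (x.comp (mapE e) h).comp (Ext.mk₀ ((shF X).map (Formal.smulMod k ω a))) (add_zero n)
    subst h
    rw [Ext.comp_assoc_of_second_deg_zero, Ext.comp_assoc_of_third_deg_zero, ← mapE_mk₀, ← mapE_mk₀,
      ← Ext.mapExactFunctor_comp, ← Ext.mapExactFunctor_comp, (smulMod_comp a e).1, (smulMod_comp a e).2]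

theorem cup_apply {F : X.Modules} {j q : ℕ} (h : q + j = n) (e : Ext.{u} F ω j) (x : Coh.HH X F q) :
    cup (k := k) h e x = x.comp (mapE e) h := rfl

theorem cup_add {F : X.Modules} {j q : ℕ} (h : q + j = n) (e e' : Ext.{u} F ω j) :
    cup (k := k) h (e + e') = cup h e + cup h e' := by
  refine LinearMap.ext fun x => ?_
  change x.comp (mapE (e + e')) h = x.comp (mapE e) h + x.comp (mapE e') h
  rw [← Ext.comp_add]
  exact congrArg (fun z => x.comp z h) (map_add ((shF X).mapExtAddHom F ω j) e e')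

theorem cup_smul {F : X.Modules} {j q : ℕ} (h : q + j = n) (a : k) (e : Ext.{u} F ω j) :
    cup h (a • e) = a • cup (k := k) h e := by
  refine LinearMap.ext fun x => ?_
  change x.comp (mapE (a • e)) h = (x.comp (mapE e) h).comp (Ext.mk₀ ((shF X).map (Formal.smulMod k ω a))) (add_zero n)
  subst h
  rw [Ext.comp_assoc_of_third_deg_zero, ← mapE_mk₀, ← Ext.mapExactFunctor_comp, (smulMod_comp a e).2]

/-- The duality map `e ↦ t (- ⋅ e)`. -/
noncomputable def theta (t : Coh.HH X ω n →ₗ[k] k) (F : X.Modules) {j q : ℕ} (h : q + j = n) :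
    Ext.{u} F ω j →ₗ[k] Module.Dual k (Coh.HH X F q) where
  toFun e := t ∘ₗ cup h e
  map_add' e e' := by rw [cup_add, LinearMap.comp_add]
  map_smul' a e := by rw [cup_smul, LinearMap.comp_smul]; rfl

theorem theta_apply (t : Coh.HH X ω n →ₗ[k] k) {F : X.Modules} {j q : ℕ} (h : q + j = n) (e : Ext.{u} F ω j)
    (x : Coh.HH X F q) : theta t F h e x = t (x.comp (mapE e) h) := rfl

/-- Naturality in the source. -/
theorem theta_mk₀_comp (t : Coh.HH X ω n →ₗ[k] k) {F G : X.Modules} {j q : ℕ} (h : q + j = n) (φ : G ⟶ F)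
    (e : Ext.{u} F ω j) (x : Coh.HH X G q) :
    theta t G h ((Ext.mk₀ φ).comp e (zero_add j)) x = theta t F h e (Canon.HHlin k φ q x) := by
  rw [theta_apply, theta_apply]
  dsimp only [mapE]
  rw [Ext.mapExactFunctor_comp, Ext.mapExactFunctor_mk₀]
  subst h
  rw [← Ext.comp_assoc_of_second_deg_zero]
  rfl

/-- Degree zero. -/
theorem theta_mk₀ (t : Coh.HH X ω n →ₗ[k] k) {F : X.Modules} (φ : F ⟶ ω) :
    theta t F (add_zero n) (Ext.mk₀ φ) = t ∘ₗ Canon.HHlin k φ n := by
  refine LinearMap.ext fun x => ?_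
  rw [theta_apply, mapE_mk₀]
  rfl

theorem theta_zero_bijective {t : Coh.HH X ω n →ₗ[k] k} {F : X.Modules} (hrep : H29Serre.RepDual t F) :
    Function.Bijective (theta t F (add_zero n)) := by
  refine ⟨(injective_iff_map_eq_zero _).2 fun e he => ?_, fun ψ => ?_⟩
  · obtain ⟨φ, rfl⟩ := (Ext.mk₀_bijective F ω).2 e
    obtain ⟨χ, -, hu⟩ := hrep (0 : Coh.HH X F n →ₗ[k] k)
    rw [theta_mk₀] at he
    have h0 : (0 : Coh.HH X F n →ₗ[k] k) = t ∘ₗ Canon.HHlin k (0 : F ⟶ ω) n := by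
      rw [H29Serre.lin_zero, LinearMap.comp_zero]
    rw [(hu φ he.symm).trans (hu 0 h0).symm, Ext.mk₀_zero]
  · obtain ⟨φ, hφ, -⟩ := hrep ψ
    exact ⟨Ext.mk₀ φ, (theta_mk₀ t φ).trans hφ.symm⟩

variable {S : ShortComplex X.Modules} (hS : S.ShortExact)

/-- Compatibility with connecting maps. -/
theorem theta_extClass_comp (t : Coh.HH X ω n →ₗ[k] k) {j j' q q' : ℕ} (hj : 1 + j = j') (hq : q + 1 = q')
    (h : q + j' = n) (h' : q' + j = n) (e : Ext.{u} S.X₁ ω j) (x : Coh.HH X S.X₃ q) :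
    theta t S.X₃ h (hS.extClass.comp e hj) x = theta t S.X₁ h' e (deltaH (k := k) hS q hq x) := by
  rw [theta_apply, theta_apply]
  dsimp only [mapE]
  rw [Ext.mapExactFunctor_comp, Ext.mapExactFunctor_extClass]
  exact congrArg t (Ext.comp_assoc x _ (mapE e) hq hj (by omega)).symm

include hS in
theorem theta_bijective_one {t : Coh.HH X ω n →ₗ[k] k} {q : ℕ} (h : q + 1 = n)
    (he : Subsingleton (Ext.{u} S.X₂ ω 1)) (hH : Subsingleton (Coh.HH X S.X₂ q))
    (hK : H29Serre.RepDual t S.X₁) (hE : H29Serre.RepDual t S.X₂) :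
    Function.Bijective (theta t S.X₃ h : Ext.{u} S.X₃ ω 1 → _) := by
  have key : ∀ φ : S.X₁ ⟶ ω, ∀ x, theta t S.X₃ h (hS.extClass.comp (Ext.mk₀ φ) (add_zero 1)) x =
      t (Canon.HHlin k φ n (deltaH (k := k) hS q h x)) := fun φ x => by
    rw [theta_extClass_comp hS t (add_zero 1) h h (add_zero n), theta_mk₀]
    rfl
  have hsurj : ∀ z : Ext.{u} S.X₃ ω 1, ∃ φ : S.X₁ ⟶ ω, hS.extClass.comp (Ext.mk₀ φ) (add_zero 1) = z := fun z => by
    obtain ⟨y, hy⟩ := Ext.contravariant_sequence_exact₃ hS _ z (he.elim _ _) (n₀ := 0) rfl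
    obtain ⟨φ, rfl⟩ := (Ext.mk₀_bijective _ _).2 y
    exact ⟨φ, hy⟩
  refine ⟨(injective_iff_map_eq_zero _).2 fun z hz => ?_, fun ψ => ?_⟩
  · obtain ⟨φ, rfl⟩ := hsurj z
    have hker : LinearMap.ker (Canon.HHlin k S.f n) ≤ LinearMap.ker (t ∘ₗ Canon.HHlin k φ n) := fun y hy => by
      obtain ⟨x, rfl⟩ := ker_HHlin_f hS q h y hy
      exact (key φ x).symm.trans (LinearMap.congr_fun hz x)
    have hd : (t ∘ₗ Canon.HHlin k φ n) ∈ LinearMap.range (Canon.HHlin k S.f n).dualMap := by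
      rw [LinearMap.range_dualMap_eq_dualAnnihilator_ker, Submodule.mem_dualAnnihilator]
      exact hker
    obtain ⟨l, hl⟩ := hd
    obtain ⟨χ, hχ, -⟩ := hE l
    obtain ⟨η, -, hu⟩ := hK (t ∘ₗ Canon.HHlin k φ n)
    have e1 : t ∘ₗ Canon.HHlin k φ n = t ∘ₗ Canon.HHlin k (S.f ≫ χ) n := by
      rw [← hl, H29Serre.lin_comp, ← LinearMap.comp_assoc, ← hχ]
      rfl
    rw [(hu φ rfl).trans (hu _ e1).symm, ← Ext.mk₀_comp_mk₀,
      ← Ext.comp_assoc hS.extClass (Ext.mk₀ S.f) (Ext.mk₀ χ) (add_zero 1) (add_zero 0) (by omega),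
      hS.extClass_comp, Ext.zero_comp]
  · obtain ⟨l, hl⟩ := LinearMap.dualMap_surjective_of_injective
      (f := deltaH (k := k) hS q h) (deltaH_injective hS q h hH) ψ
    obtain ⟨φ, hφ, -⟩ := hK l
    exact ⟨hS.extClass.comp (Ext.mk₀ φ) (add_zero 1), LinearMap.ext fun x => by
      rw [key, ← hl, hφ]; rfl⟩

include hS in
theorem theta_bijective_step {t : Coh.HH X ω n →ₗ[k] k} {j j' q q' : ℕ} (hj : 1 + j = j') (hq : q + 1 = q')
    (h : q + j' = n) (h' : q' + j = n) (he : Subsingleton (Ext.{u} S.X₂ ω j))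
    (he' : Subsingleton (Ext.{u} S.X₂ ω j')) (hH : Subsingleton (Coh.HH X S.X₂ q))
    (hH' : Subsingleton (Coh.HH X S.X₂ q')) (hK : Function.Bijective (theta t S.X₁ h' : Ext.{u} S.X₁ ω j → _)) :
    Function.Bijective (theta t S.X₃ h : Ext.{u} S.X₃ ω j' → _) := by
  let d := LinearEquiv.ofBijective (deltaH (k := k) hS q hq) (deltaH_bijective hS q hq hH hH')
  have key : ∀ e, theta t S.X₃ h (hS.extClass.comp e hj) = d.dualMap (theta t S.X₁ h' e) := fun e =>
    LinearMap.ext fun x => theta_extClass_comp hS t hj hq h h' e x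
  have hb : Function.Bijective fun e : Ext.{u} S.X₁ ω j => hS.extClass.comp e hj := by
    refine ⟨(injective_iff_map_eq_zero (hS.extClass.precomp ω hj)).2 fun e he0 => ?_, fun z => ?_⟩
    · obtain ⟨y, rfl⟩ := Ext.contravariant_sequence_exact₁ hS _ e hj he0
      rw [he.elim y 0, Ext.comp_zero]
    · exact Ext.contravariant_sequence_exact₃ hS _ z (he'.elim _ _) hj
  have : (theta t S.X₃ h ∘ fun e => hS.extClass.comp e hj) = d.dualMap ∘ theta t S.X₁ h' := funext key
  refine (Function.Bijective.of_comp_iff _ hb).1 ?_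
  rw [this]
  exact d.dualMap.bijective.comp hK

/-- Duality maps are bijective in degrees `≤ s` given effacement. -/
theorem theta_bijective (t : Coh.HH X ω n →ₗ[k] k) (C : X.Modules → Prop) (s : ℕ) (hsn : s ≤ n)
    (hrep : ∀ F, C F → H29Serre.RepDual t F)
    (hpres : ∀ F, C F → ∀ j, j ≤ s → ∃ (S : ShortComplex X.Modules) (_ : S.ShortExact),
      S.X₃ = F ∧ C S.X₁ ∧ C S.X₂ ∧ (∀ i, 0 < i → i ≤ j → Subsingleton (Ext.{u} S.X₂ ω i)) ∧
        ∀ q, n ≤ q + s → q < n → Subsingleton (Coh.HH X S.X₂ q)) :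
    ∀ (j : ℕ), j ≤ s → ∀ F, C F → ∀ (q : ℕ) (h : q + j = n), Function.Bijective (theta t F h) := by
  intro j
  induction j with
  | zero =>
    intro _ F hF q h
    obtain rfl : q = n := h
    exact theta_zero_bijective (hrep F hF)
  | succ j ih =>
    intro hj F hF q h
    obtain ⟨S, hS, rfl, hK, hE, hext, hcoh⟩ := hpres F hF (j + 1) hj
    rcases Nat.eq_zero_or_pos j with rfl | hj0
    · exact theta_bijective_one hS h (hext 1 one_pos le_rfl) (hcoh q (by omega) (by omega)) (hrep _ hK) (hrep _ hE)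
    · exact theta_bijective_step hS (add_comm 1 j) rfl h (show q + 1 + j = n by omega) (hext j hj0 (Nat.le_succ j))
        (hext (j + 1) (Nat.succ_pos j) le_rfl) (hcoh q (by omega) (by omega)) (hcoh (q + 1) (by omega) (by omega))
        (ih (by omega) S.X₁ hK (q + 1) (by omega))

/-- No Ext beyond the top degree. -/
theorem subsingleton_ext_above (t : Coh.HH X ω n →ₗ[k] k) (C : X.Modules → Prop)
    (hrep : ∀ F, C F → H29Serre.RepDual t F)
    (hpres : ∀ F, C F → ∀ j : ℕ, ∃ (S : ShortComplex X.Modules) (_ : S.ShortExact),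
      S.X₃ = F ∧ C S.X₁ ∧ C S.X₂ ∧ (∀ i, 0 < i → i ≤ j → Subsingleton (Ext.{u} S.X₂ ω i)) ∧
        ∀ q, q < n → Subsingleton (Coh.HH X S.X₂ q))
    (m : ℕ) : ∀ F, C F → Subsingleton (Ext.{u} F ω (n + 1 + m)) := by
  induction m with
  | zero =>
    intro F hF
    obtain ⟨S, hS, rfl, hK, hE, hext, hcoh⟩ := hpres F hF (n + 1)
    rcases Nat.eq_zero_or_pos n with rfl | hn
    · exact subsingleton_ext_one (k := k) hS (hext 1 one_pos le_rfl) (hrep _ hK) (hrep _ hE) rfl
    have hb := theta_bijective t C n le_rfl hrep (fun G hG j _ => by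
      obtain ⟨S, hS, h1, h2, h3, h4, h5⟩ := hpres G hG j
      exact ⟨S, hS, h1, h2, h3, h4, fun q _ hq => h5 q hq⟩) n le_rfl S.X₁ hK 0 (zero_add n)
    have hz : Subsingleton (Coh.HH X S.X₁ 0) :=
      @Function.Injective.subsingleton _ _ _ (HHlin_f_injective_zero (k := k) hS) (hcoh 0 hn)
    have hz' : Subsingleton (Ext.{u} S.X₁ ω n) := ⟨fun a b => hb.1 (LinearMap.ext fun x => by
      rw [hz.elim x 0, map_zero, map_zero])⟩
    refine subsingleton_of_forall_eq 0 fun z => ?_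
    obtain ⟨y, rfl⟩ := Ext.contravariant_sequence_exact₃ hS _ z ((hext (n + 1 + 0) (Nat.succ_pos _) le_rfl).elim _ _)
      (show 1 + n = n + 1 + 0 by omega)
    rw [hz'.elim y 0, Ext.comp_zero]
  | succ m ih =>
    intro F hF
    obtain ⟨S, hS, rfl, hK, hE, hext, hcoh⟩ := hpres F hF (n + 1 + (m + 1))
    refine subsingleton_of_forall_eq 0 fun z => ?_
    obtain ⟨y, rfl⟩ := Ext.contravariant_sequence_exact₃ hS _ z ((hext _ (Nat.succ_pos _) le_rfl).elim _ _)
      (show 1 + (n + 1 + m) = n + 1 + (m + 1) by omega)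
    rw [(ih _ hK).elim y 0, Ext.comp_zero]

end Groth.Agent.H17.DualSh
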