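import Groth.Agent.H17.DualSh.Closed
import Groth.Agent.H17.DualSh.Main
import Groth.Agent.H17.FLI.TopForms
import Groth.Agent.H17.FLI.ProjTop
import Groth.Agent.H17.FLI.SmoothDual
import Groth.Agent.H17.EdgeIso.Main
import Groth.Agent.H10Inj.SheafExt.ChangeRings
import Groth.Agent.H16Derived.KFlat.RestrictD
import Groth.Agent.H29Omega.DerLocal
import Groth.Agent.H27CurveDiv.RelDim
import Groth.Agent.H29RR.SmoothRegular
import Groth.Agent.H8Props.Devissage.LocalFibre
import Groth.Agent.H17.DualSh.Dim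
import Groth.Agent.S11328
import Groth.Agent.S5792

/-!
# The dualizing sheaf on the smooth locus is the sheaf of top forms
-/

set_option autoImplicit false
set_option linter.style.haveILetI false
set_option linter.unusedSectionVars false
set_option synthInstance.maxHeartbeats 400000
set_option maxHeartbeats 1600000
set_option backward.isDefEq.respectTransparency false

universe u

open CategoryTheory CategoryTheory.Limits AlgebraicGeometry Opposite TopologicalSpace
open Groth.Agent.H10Inj.SheafExt Groth.Agent.H16Derived.ProjFormula Groth.Agent.H8Props.FieldDim Groth.Agent.H17.FLI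

namespace Groth.Agent.H17.DualSh

variable {k : Type u} [Field k] {X : Scheme.{u}} [X.Over (Spec (CommRingCat.of k))]

theorem nonempty_extSh_congr {V : Scheme.{u}} {A B G G' : V.Modules} (eA : A ≅ B) (eG : G ≅ G') (i : ℕ)
    [ModSite.HasSheafHom (O := V.sheaf) A] [ModSite.HasSheafHom (O := V.sheaf) B]
    [HasInjectiveResolutions (ModSite.Mod V.sheaf)] :
    Nonempty ((ModSite.extSh (O := V.sheaf) A i).obj G ≅ (ModSite.extSh (O := V.sheaf) B i).obj G') := by
  haveI : HasInjectiveResolutions V.Modules := ‹HasInjectiveResolutions (ModSite.Mod V.sheaf)›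
  exact ⟨extShIso A i G ≪≫ (H02CA.ModLocalise.rdMapIso (homCongrIso eA) i).app G ≪≫
    ((homFunctor B).rightDerived i).mapIso eG ≪≫ (extShIso B i G').symm⟩

/-- Dualizing pairs are unique. -/
theorem nonempty_iso_of_repDual {r : ℕ} {ω ω' : X.Modules} {t : Coh.HH X ω r →ₗ[k] k} {t' : Coh.HH X ω' r →ₗ[k] k}
    (hrep : ∀ F : X.Modules, Coh.IsCoh F → H29Serre.RepDual t F)
    (hrep' : ∀ F : X.Modules, Coh.IsCoh F → H29Serre.RepDual t' F) (hω : Coh.IsCoh ω) (hω' : Coh.IsCoh ω') :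
    Nonempty (ω ≅ ω') := by
  obtain ⟨a, ha, -⟩ := hrep ω' hω' t'
  obtain ⟨b, hb, -⟩ := hrep' ω hω t
  exact ⟨{
    hom := b, inv := a
    hom_inv_id := (hrep ω hω t).unique
      (by rw [H29Serre.lin_comp, ← LinearMap.comp_assoc, ← ha, ← hb]) (by rw [H29Serre.lin_id, LinearMap.comp_id])
    inv_hom_id := (hrep' ω' hω' t').unique
      (by rw [H29Serre.lin_comp, ← LinearMap.comp_assoc, ← hb, ← ha]) (by rw [H29Serre.lin_id, LinearMap.comp_id]) }⟩

/-- On a smooth open the dualizing sheaf of an integral closed subscheme of projective space is the top forms. -/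
theorem nonempty_restrict_iso_topForms [IsIntegral X] [PerfectField k] {N r : ℕ}
    (hdim : topologicalKrullDim ↥X = (r : WithBot ℕ∞))
    (ι : X ⟶ CohB1.ProjSpace N k) [IsClosedImmersion ι]
    (hι : ι ≫ CohB1.ProjSpace.toSpec N k = X ↘ Spec (CommRingCat.of k))
    (U : X.Opens) (hU : ∀ x ∈ U, IsRegularLocalRing (X.presheaf.stalk x))
    {ω : X.Modules} (hω : Coh.IsCoh ω) {t : Coh.HH X ω r →ₗ[k] k}
    (hrep : ∀ F : X.Modules, Coh.IsCoh F → H29Serre.RepDual t F)
    {W : (↑U : Scheme.{u}).Modules} (hW : ExtPow.IsExtPow r (Omega.sheaf (U.ι ≫ (X ↘ Spec (CommRingCat.of k)))) W) :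
    Nonempty ((Scheme.Modules.restrictFunctor U.ι).obj ω ≅ W) := by
  haveI : IsIntegral (CohB1.ProjSpace N k) := LeadPic.PnRel.isIntegral_projSpace (n := N) k
  let P := CohB1.ProjSpace N k
  haveI := EdgeIso.hasSheafHom (O' ι)
  haveI := EdgeIso.hasInjectiveResolutions P
  haveI : HasInjectiveResolutions P.Modules := ‹HasInjectiveResolutions (ModSite.Mod P.sheaf)›
  haveI : (push ι).PreservesHomology := preservesHomology_push ι
  haveI : PreservesFiniteColimits (push ι) := (push ι).preservesFiniteColimits_of_preservesHomology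
  haveI : LocallyOfFiniteType (X ↘ Spec (CommRingCat.of k)) := hι ▸ inferInstance
  have hrN : r ≤ N := by
    letI : P.Over (Spec (CommRingCat.of k)) := ⟨CohB1.ProjSpace.toSpec N k⟩
    haveI : SmoothOfRelativeDimension N (P ↘ Spec (CommRingCat.of k)) := FLI.smoothOfRelativeDimension_projSpace N k
    have h1 := ι.isClosedEmbedding.isInducing.topologicalKrullDim_le
    rw [hdim, FLI.smooth_dim k (X := P) (r := N)] at h1
    exact_mod_cast h1
  let ωP := Twist.twistProjSpace N k (-((N : ℤ) + 1))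
  let ω' : X.Modules := ((changeFunctor ι (Coh.structureModule X)).rightDerived (N - r)).obj ωP
  let eω : (push ι).obj ω' ≅ (ModSite.extSh (O := P.sheaf) (O' ι) (N - r)).obj ωP :=
    ((H02CA.RDPostcomp.postcompIso (changeFunctor ι (Coh.structureModule X)) (push ι) (N - r)).app ωP).symm ≪≫
      (H02CA.ModLocalise.rdMapIso (changeIso ι (Coh.structureModule X)) (N - r)).app ωP ≪≫
      (extShIso _ (N - r) ωP).symm
  have hω'c : Coh.IsCoh ω' := isCoh_dualizing ι ⟨eω⟩
  obtain ⟨t', ht'⟩ := exists_repDual_closed ι hι (c := N - r) (Nat.add_sub_cancel' hrN)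
    (add_sub_le hrN hdim.le) ω' ⟨eω⟩
  obtain ⟨e0⟩ := nonempty_iso_of_repDual hrep ht' hω hω'c
  obtain ⟨V, rfl⟩ : ∃ V : P.Opens, U = ι ⁻¹ᵁ V := by
    refine ⟨⟨(ι.base '' (U : Set X)ᶜ)ᶜ, (ι.isClosedEmbedding.isClosedMap _ U.isOpen.isClosed_compl).isOpen_compl⟩, ?_⟩
    ext x
    show x ∈ (U : Set X) ↔ ι.base x ∉ ι.base '' (U : Set X)ᶜ
    rw [ι.isClosedEmbedding.injective.mem_set_image, Set.notMem_compl_iff]
  let f := X ↘ Spec (CommRingCat.of k)
  let U := ι ⁻¹ᵁ V
  let g := CohB1.ProjSpace.toSpec N k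
  rcases isEmpty_or_nonempty (↑U : Scheme.{u}) with hE | hE
  · have hz : ∀ M : (↑U : Scheme.{u}).Modules, IsZero M := fun M =>
      H16Derived.KFlat.Stalk.isZero_of_stalk fun x => isEmptyElim x
    exact ⟨(hz _).iso (hz _)⟩
  haveI : IsIntegral (↑U : Scheme.{u}) := isIntegral_of_isOpenImmersion U.ι
  haveI : LocallyOfFiniteType (U.ι ≫ f) := inferInstance
  letI : (↑U : Scheme.{u}).Over (Spec (CommRingCat.of k)) := ⟨U.ι ≫ f⟩
  haveI : LocallyOfFiniteType ((↑U : Scheme.{u}) ↘ Spec (CommRingCat.of k)) := ‹LocallyOfFiniteType (U.ι ≫ f)›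
  haveI : Smooth (U.ι ≫ f) := H29RR.smooth_of_regular k (↑U : Scheme.{u}) fun u => by
    haveI : IsRegularLocalRing (X.presheaf.stalk (U.ι u)) := hU _ u.2
    exact IsRegularLocalRing.of_ringEquiv (asIso (U.ι.stalkMap u)).commRingCatIsoToRingEquiv
  have hdU : topologicalKrullDim ↥(↑U : Scheme.{u}) = (r : WithBot ℕ∞) := by
    have h : ∀ u : (↑U : Scheme.{u}), FlatMor.localDim (↑U : Scheme.{u}) u = (r : WithBot ℕ∞) := fun u => by
      rw [H8Props.Devissage.localDim_openEmbedding U.ι.isOpenEmbedding u, localDim_eq_of_pure f (U.ι.base u) _ ?_]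
      intro T hT
      rw [irreducibleComponents_eq_singleton] at hT
      obtain rfl := hT
      rw [IsHomeomorph.topologicalKrullDim_eq _ (Homeomorph.Set.univ _).isHomeomorph]
      exact hdim
    rw [S5792.result]
    obtain ⟨u⟩ := hE
    exact le_antisymm (iSup_le fun v => (h v).le) ((h u).ge.trans (le_iSup _ u))
  haveI : SmoothOfRelativeDimension r (U.ι ≫ f) := H27CurveDiv.smoothOfRelativeDimension_of_dim _ r hdU
  haveI : SmoothOfRelativeDimension N g := FLI.smoothOfRelativeDimension_projSpace N k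
  haveI : SmoothOfRelativeDimension N (V.ι ≫ g) := IsZariskiLocalAtSource.comp ‹_› V.ι
  haveI : IsLocallyNoetherian P := LocallyOfFiniteType.isLocallyNoetherian g
  haveI : IsLocallyNoetherian (↑U : Scheme.{u}) := LocallyOfFiniteType.isLocallyNoetherian (U.ι ≫ f)
  haveI : IsLocallyNoetherian (↑V : Scheme.{u}) := inferInstance
  -- top forms on the ambient open
  have hqP : Coh.IsQCoh (Omega.sheaf g) := H29Omega.isQCoh_sheaf g
  obtain ⟨Ω0, hΩ0⟩ := H22Alg.ExtPowSheaf.exists_isExtPow N hqP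
  obtain ⟨eΩ0⟩ := FLI.nonempty_topForms_projSpace_iso N k hΩ0
  obtain ⟨eV⟩ := H29Omega.nonempty_restrict_iso_sheaf (H17.PrinOmega.isUniversal_dOmega g) V.ι
  have hΩV : ExtPow.IsExtPow N (Omega.sheaf (V.ι ≫ g)) ((Scheme.Modules.pullback V.ι).obj Ω0) :=
    H22Alg.ExtPowSES.isExtPow_of_iso
      (((Scheme.Modules.restrictFunctorIsoPullback V.ι).app (Omega.sheaf g)).symm ≪≫ eV)
      (H22Alg.ExtPowHom.isExtPow_pullback V.ι hqP hΩ0)
  let ι' := ι ∣_ V
  haveI : IsClosedImmersion ι' := IsZariskiLocalAtTarget.restrict ‹IsClosedImmersion ι› V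
  have hι' : ι' ≫ V.ι ≫ g = U.ι ≫ f := by
    rw [← Category.assoc, morphismRestrict_ι, Category.assoc, hι]
  haveI := EdgeIso.hasSheafHom ((O' ι).restrict V.ι)
  haveI := EdgeIso.hasInjectiveResolutions (↑V : Scheme.{u})
  haveI := EdgeIso.hasSheafHom (O' ι')
  haveI : HasInjectiveResolutions (↑V : Scheme.{u}).Modules :=
    ‹HasInjectiveResolutions (ModSite.Mod (↑V : Scheme.{u}).sheaf)›
  obtain ⟨a⟩ := FLI.nonempty_topForms_iso (V.ι ≫ g) (U.ι ≫ f) ι' hι' N r hΩV hW
  obtain ⟨b⟩ := S11328.result P V (O' ι) ωP (N - r)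
  let eO : (O' ι).restrict V.ι ≅ O' ι' := (H16Derived.KFlat.Stalk.pushRestrictNatIso ι V).app _ ≪≫
    (push ι').mapIso (Scheme.Modules.restrictUnitIso U.ι)
  let eωV : ωP.restrict V.ι ≅ (Scheme.Modules.pullback V.ι).obj Ω0 :=
    (Scheme.Modules.restrictFunctor V.ι).mapIso eΩ0.symm ≪≫ (Scheme.Modules.restrictFunctorIsoPullback V.ι).app Ω0
  obtain ⟨c⟩ := nonempty_extSh_congr eO eωV (N - r)
  exact ⟨(Scheme.Modules.restrictFunctor U.ι).mapIso e0 ≪≫ (pushFF ι').preimageIso
    ((((H16Derived.KFlat.Stalk.pushRestrictNatIso ι V).app ω').symm ≪≫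
      (Scheme.Modules.restrictFunctor V.ι).mapIso eω ≪≫ b ≪≫ c ≪≫ a.symm))⟩

end Groth.Agent.H17.DualSh
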